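import Mathlib
import Groth.Agent.DefGlueLib.Iso

/-!
# Affine morphisms with free direct image over a scheme with constant global functions
-/

set_option autoImplicit false
set_option backward.isDefEq.respectTransparency false
set_option backward.isDefEq.respectTransparency.types false
set_option linter.style.haveILetI false

universe u

open CategoryTheory CategoryTheory.Limits AlgebraicGeometry TopologicalSpace Opposite
open scoped TensorProduct

noncomputable section

namespace Groth.Agent.ProjFinLib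

/-- The pushout of a spanning family spans. -/
theorem span_of_isPushout {R B A P : CommRingCat.{u}} {φ : R ⟶ B} {ψ : R ⟶ A} {i : B ⟶ P} {j : A ⟶ P}
    (h : IsPushout φ ψ i j) {ι : Type*} [Fintype ι] (b : ι → B)
    (hb : ∀ y : B, ∃ r : ι → R, y = ∑ n, φ (r n) * b n) (x : P) :
    ∃ a : ι → A, x = ∑ n, j (a n) * i (b n) := by
  letI := φ.hom.toAlgebra
  letI := ψ.hom.toAlgebra
  have h0 : IsPushout φ ψ (CommRingCat.ofHom (Algebra.TensorProduct.includeLeftRingHom (R := R) (A := B) (B := A)))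
      (CommRingCat.ofHom (Algebra.TensorProduct.includeRight (R := R) (A := B) (B := A)).toRingHom) :=
    CommRingCat.isPushout_tensorProduct R B A
  set e := h0.isoIsPushout _ _ h with he
  have hl : ∀ y : B, e.hom (y ⊗ₜ[R] (1 : A)) = i y := fun y =>
    ConcreteCategory.congr_hom (IsPushout.inl_isoIsPushout_hom _ _ h0 h) y
  have hr : ∀ c : A, e.hom ((1 : B) ⊗ₜ[R] c) = j c := fun c =>
    ConcreteCategory.congr_hom (IsPushout.inr_isoIsPushout_hom _ _ h0 h) c
  have hw : ∀ r : R, i (φ r) = j (ψ r) := fun r => ConcreteCategory.congr_hom h.w r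
  obtain ⟨w, rfl⟩ := (ConcreteCategory.bijective_of_isIso e.hom).2 x
  refine TensorProduct.induction_on (motive := fun w : TensorProduct R B A =>
    ∃ a : ι → A, e.hom w = ∑ n, j (a n) * i (b n)) w ⟨0, by simp⟩ (fun y c => ?_) (fun w1 w2 h1 h2 => ?_)
  · obtain ⟨r, hr'⟩ := hb y
    refine ⟨fun n => c * ψ (r n), ?_⟩
    have : y ⊗ₜ[R] c = (y ⊗ₜ[R] (1 : A)) * ((1 : B) ⊗ₜ[R] c) := by
      rw [Algebra.TensorProduct.tmul_mul_tmul, mul_one, one_mul]
    rw [this]
    rw [map_mul, hl, hr, hr', map_sum, Finset.sum_mul]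
    refine Finset.sum_congr rfl fun n _ => ?_
    rw [map_mul, map_mul, hw]
    ring
  · obtain ⟨a1, e1⟩ := h1
    obtain ⟨a2, e2⟩ := h2
    refine ⟨a1 + a2, ?_⟩
    rw [map_add, e1, e2, ← Finset.sum_add_distrib]
    exact Finset.sum_congr rfl fun n _ => by rw [Pi.add_apply, map_add, add_mul]

variable {F P : Scheme.{u}} (f : F ⟶ P) {ι : Type u}

/-- A family of global functions restricting to a basis of the sections over every open. -/
def IsBasisEverywhere [Fintype ι] (b : ι → Γ(F, ⊤)) : Prop :=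
  ∀ (U : P.Opens) (t : Γ(F, f ⁻¹ᵁ U)), ∃! c : ι → Γ(P, U),
    t = ∑ n, f.app U (c n) * F.presheaf.map (homOfLE le_top : f ⁻¹ᵁ U ⟶ ⊤).op (b n)

theorem exists_basis [Fintype ι]
    (e : (Scheme.Modules.pushforward f).obj (SheafOfModules.unit F.ringCatSheaf) ≅
      ∐ fun _ : ι => (SheafOfModules.unit P.ringCatSheaf : P.Modules)) :
    ∃ b : ι → Γ(F, ⊤), IsBasisEverywhere f b := by
  classical
  let N : P.Modules := (Scheme.Modules.pushforward f).obj (SheafOfModules.unit F.ringCatSheaf)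
  let one : P.Modules := (SheafOfModules.unit P.ringCatSheaf : P.Modules)
  let ins : ι → (one ⟶ N) := fun n => Sigma.ι (fun _ : ι => one) n ≫ e.inv
  let prj : ι → (N ⟶ one) := fun n => e.hom ≫ Sigma.desc (fun m => if m = n then 𝟙 one else 0)
  have hδ : ∀ m n, ins m ≫ prj n = if m = n then 𝟙 one else 0 := fun m n => by
    simp only [ins, prj, Category.assoc, Iso.inv_hom_id_assoc]
    exact Sigma.ι_desc _ _
  have hsum : ∑ n, prj n ≫ ins n = 𝟙 N := by
    have h0 : ∑ n, Sigma.desc (fun m : ι => if m = n then 𝟙 one else 0) ≫ Sigma.ι (fun _ : ι => one) n = 𝟙 _ := by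
      refine Sigma.hom_ext _ _ fun m => ?_
      rw [Preadditive.comp_sum, Category.comp_id, Finset.sum_eq_single m]
      · simp
      · intro n _ hn
        simp [Ne.symm hn]
      · simp
    calc ∑ n, prj n ≫ ins n = e.hom ≫ (∑ n, Sigma.desc (fun m : ι => if m = n then 𝟙 one else 0) ≫
          Sigma.ι (fun _ : ι => one) n) ≫ e.inv := by
          simp only [Preadditive.sum_comp, Preadditive.comp_sum, ins, prj, Category.assoc]
      _ = 𝟙 N := by rw [h0, Category.id_comp, Iso.hom_inv_id]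
  let u1 : ∀ U : P.Opens, Γ(one, U) := fun U => (1 : Γ(P, U))
  let b : ι → Γ(F, ⊤) := fun n => (ins n).app ⊤ (u1 ⊤)
  refine ⟨b, fun U t => ?_⟩
  have hres : ∀ n, (ins n).app U (u1 U) = F.presheaf.map (homOfLE le_top : f ⁻¹ᵁ U ⟶ ⊤).op (b n) := fun n => by
    have h := ConcreteCategory.congr_hom ((ins n).mapPresheaf.naturality (homOfLE (le_top : U ≤ ⊤)).op) (u1 ⊤)
    refine Eq.trans ?_ h
    refine congrArg ((ins n).app U) ?_
    exact (map_one (P.presheaf.map (homOfLE (le_top : U ≤ ⊤)).op).hom).symm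
  have hlin : ∀ n (c : Γ(P, U)), (ins n).app U (c • u1 U) =
      f.app U c * F.presheaf.map (homOfLE le_top : f ⁻¹ᵁ U ⟶ ⊤).op (b n) := fun n c => by
    rw [← hres n, Scheme.Modules.Hom.app_smul]
    rfl
  have hone : ∀ c : Γ(one, U), ∃ c' : Γ(P, U), c = c' • u1 U := fun c => ⟨c, (mul_one (M := Γ(P, U)) c).symm⟩
  let tN : Γ(N, U) := t
  have ht : tN = ∑ n, (ins n).app U ((prj n).app U tN) := by
    have h := congrArg (fun φ : N ⟶ N => φ.app U tN) hsum
    simp only [Scheme.Modules.Hom.id_app] at h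
    refine h.symm.trans ?_
    let ev : (N ⟶ N) →+ Γ(N, U) :=
      { toFun := fun φ => φ.app U tN, map_zero' := rfl, map_add' := fun _ _ => rfl }
    exact map_sum ev (fun n => prj n ≫ ins n) Finset.univ
  choose c' hc' using fun n => hone ((prj n).app U tN)
  refine ⟨c', ?_, fun c hc => ?_⟩
  · refine ht.trans (Finset.sum_congr rfl fun n _ => ?_)
    rw [hc' n, hlin]
  · funext m
    have h1 : tN = ∑ n, (ins n).app U (c n • u1 U) :=
      hc.trans (Finset.sum_congr rfl fun n _ => (hlin n (c n)).symm)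
    have h2 : (prj m).app U tN = c m • u1 U := by
      rw [h1, map_sum, Finset.sum_eq_single m]
      · have h := congrArg (fun φ : one ⟶ one => φ.app U (c m • u1 U)) (hδ m m)
        simp only at h
        exact h
      · intro n _ hn
        have h := congrArg (fun φ : one ⟶ one => φ.app U (c n • u1 U)) (hδ n m)
        simp only [if_neg hn] at h
        exact h
      · simp
    have h3 : c' m • u1 U = c m • u1 U := (hc' m).symm.trans h2
    have h4 : ∀ x : Γ(P, U), x • u1 U = x := fun x => mul_one x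
    rw [h4, h4] at h3
    exact h3.symm

/-- An affine morphism with an everywhere-basis of global functions, over a base whose global functions are
the constants, is the base change of `Spec` of its global functions. -/
theorem isPullback_toSpecΓ [Fintype ι] [IsAffineHom f] {R : CommRingCat.{u}} (q : P ⟶ Spec R)
    (hq : Function.Surjective q.appTop) {b : ι → Γ(F, ⊤)} (hb : IsBasisEverywhere f b) :
    IsPullback F.toSpecΓ f (Spec.map ((Scheme.ΓSpecIso R).inv ≫ (f ≫ q).appTop)) q := by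
  set pB := Spec.map ((Scheme.ΓSpecIso R).inv ≫ (f ≫ q).appTop) with hpB
  have hw : F.toSpecΓ ≫ pB = f ≫ q := by
    rw [hpB, Spec.map_comp, ← Category.assoc, ← Scheme.toSpecΓ_naturality, Category.assoc,
      toSpecΓ_SpecMap_ΓSpecIso_inv, Category.comp_id]
  let h : F ⟶ pullback pB q := pullback.lift F.toSpecΓ f hw
  have h1 : h ≫ pullback.fst pB q = F.toSpecΓ := pullback.lift_fst _ _ _
  have h2 : h ≫ pullback.snd pB q = f := pullback.lift_snd _ _ _
  haveI : IsAffineHom pB := inferInstance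
  haveI : IsAffineHom (pullback.snd pB q) := MorphismProperty.pullback_snd _ _ ‹IsAffineHom pB›
  haveI : IsIso h := by
    refine DefGlueLib.isIso_of_affine h fun z => ?_
    obtain ⟨_, ⟨U, hU, rfl⟩, hzU, -⟩ := P.isBasis_affineOpens.exists_subset_of_mem_open
      (Set.mem_univ (pullback.snd pB q z)) isOpen_univ
    have hV : IsAffineOpen (pullback.snd pB q ⁻¹ᵁ U) := IsAffineOpen.preimage hU _
    have hfU : IsAffineOpen (f ⁻¹ᵁ U) := IsAffineOpen.preimage hU f
    set V := pullback.snd pB q ⁻¹ᵁ U with hVdef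
    have hpre : h ⁻¹ᵁ V = f ⁻¹ᵁ U := by
      rw [hVdef, ← Scheme.Hom.comp_preimage, h2]
    refine ⟨V, hzU, hV, hpre ▸ hfU, ?_⟩
    have key : Function.Bijective (h.appLE V (f ⁻¹ᵁ U) hpre.ge) := by
      have H := IsPullback.of_hasPullback pB q
      have hUY : V = pullback.fst pB q ⁻¹ᵁ ⊤ ⊓ pullback.snd pB q ⁻¹ᵁ U := by
        rw [hVdef, Scheme.Hom.preimage_top, top_inf_eq]
      have hPO := (isIso_pushoutSection_iff H (US := ⊤) (UT := U) (UX := ⊤) le_top le_top hUY).1
        (isIso_pushoutSection_of_isAffineOpen H le_top le_top hUY (isAffineOpen_top _) hU (isAffineOpen_top _))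
      let B' : ι → Γ(Spec Γ(F, ⊤), ⊤) := fun n => (Scheme.ΓSpecIso Γ(F, ⊤)).inv (b n)
      have hB' : ∀ n, h.appLE V (f ⁻¹ᵁ U) hpre.ge ((pullback.fst pB q).appLE ⊤ V le_top (B' n)) =
          F.presheaf.map (homOfLE le_top : f ⁻¹ᵁ U ⟶ ⊤).op (b n) := fun n => by
        rw [← ConcreteCategory.comp_apply, Scheme.Hom.appLE_comp_appLE]
        have aux : ∀ (g : F ⟶ Spec Γ(F, ⊤)) (ee : f ⁻¹ᵁ U ≤ g ⁻¹ᵁ ⊤), g = F.toSpecΓ →
            g.appLE ⊤ (f ⁻¹ᵁ U) ee (B' n) = F.presheaf.map (homOfLE le_top : f ⁻¹ᵁ U ⟶ ⊤).op (b n) := by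
          rintro g ee rfl
          show F.presheaf.map _ (F.toSpecΓ.appTop ((Scheme.ΓSpecIso Γ(F, ⊤)).inv (b n))) = _
          rw [Scheme.toSpecΓ_appTop, ← ConcreteCategory.comp_apply (Scheme.ΓSpecIso Γ(F, ⊤)).inv, Iso.inv_hom_id]
          rfl
        exact aux _ _ h1
      have hsnd : ∀ c : Γ(P, U), h.appLE V (f ⁻¹ᵁ U) hpre.ge ((pullback.snd pB q).appLE U V le_rfl c) =
          f.app U c := fun c => by
        rw [← ConcreteCategory.comp_apply, Scheme.Hom.appLE_comp_appLE]
        have aux : ∀ (g : F ⟶ P) (ee : f ⁻¹ᵁ U ≤ g ⁻¹ᵁ U), g = f → g.appLE U (f ⁻¹ᵁ U) ee c = f.app U c := by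
          rintro g ee rfl
          rw [Scheme.Hom.app_eq_appLE]
        exact aux _ _ h2
      have hspan : ∀ y : Γ(Spec Γ(F, ⊤), ⊤), ∃ r : ι → Γ(Spec R, ⊤),
          y = ∑ n, pB.appLE ⊤ ⊤ le_top (r n) * B' n := fun y => by
        obtain ⟨c, hc, -⟩ := hb ⊤ ((Scheme.ΓSpecIso Γ(F, ⊤)).hom y)
        choose r hr using fun n => hq (c n)
        refine ⟨r, ?_⟩
        apply (ConcreteCategory.bijective_of_isIso (Scheme.ΓSpecIso Γ(F, ⊤)).hom).1
        rw [hc, map_sum]
        refine Finset.sum_congr rfl fun n _ => ?_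
        rw [map_mul]
        show _ = (Scheme.ΓSpecIso Γ(F, ⊤)).hom (pB.appLE ⊤ ⊤ le_top (r n)) *
          (Scheme.ΓSpecIso Γ(F, ⊤)).hom ((Scheme.ΓSpecIso Γ(F, ⊤)).inv (b n))
        rw [← ConcreteCategory.comp_apply (Scheme.ΓSpecIso Γ(F, ⊤)).inv, Iso.inv_hom_id]
        have e1 : (Scheme.ΓSpecIso Γ(F, ⊤)).hom (pB.appLE ⊤ ⊤ le_top (r n)) = f.appTop (q.appTop (r n)) := by
          have : pB.appLE ⊤ ⊤ le_top = pB.appTop := by
            simp [Scheme.Hom.app_eq_appLE]
          rw [this, hpB]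
          have e2 := ConcreteCategory.congr_hom
            (Scheme.ΓSpecIso_naturality ((Scheme.ΓSpecIso R).inv ≫ (f ≫ q).appTop)) (r n)
          refine Eq.trans e2 ?_
          rw [← ConcreteCategory.comp_apply, Iso.hom_inv_id_assoc]
          rfl
        rw [e1, hr n]
        simp
      refine ⟨fun x x' hxx => ?_, fun t => ?_⟩
      · obtain ⟨a, rfl⟩ := span_of_isPushout hPO B' hspan x
        obtain ⟨a', rfl⟩ := span_of_isPushout hPO B' hspan x'
        simp only [map_sum, map_mul, hB', hsnd] at hxx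
        obtain ⟨c, -, hc⟩ := hb U (∑ n, f.app U (a n) * F.presheaf.map (homOfLE le_top : f ⁻¹ᵁ U ⟶ ⊤).op (b n))
        rw [(hc a rfl).trans (hc a' hxx).symm]
      · obtain ⟨c, hc, -⟩ := hb U t
        refine ⟨∑ n, (pullback.snd pB q).appLE U V le_rfl (c n) * (pullback.fst pB q).appLE ⊤ V le_top (B' n), ?_⟩
        rw [map_sum, hc]
        exact Finset.sum_congr rfl fun n _ => by rw [map_mul, hB', hsnd]
    rw [ConcreteCategory.isIso_iff_bijective, Scheme.Hom.app_eq_appLE]
    have aux : ∀ (W : F.Opens) (e' : W ≤ h ⁻¹ᵁ V), W = f ⁻¹ᵁ U → Function.Bijective (h.appLE V W e') := by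
      rintro W e' rfl
      exact key
    exact aux _ _ hpre
  exact IsPullback.of_iso_pullback ⟨hw⟩ (asIso h) h1 h2

/-- Reconstruction from the fibre at a section of the base. -/
theorem nonempty_over_iso {R : CommRingCat.{u}} (q : P ⟶ Spec R) (s : Spec R ⟶ P) (hs : s ≫ q = 𝟙 _)
    {pB : Spec Γ(F, ⊤) ⟶ Spec R} (H1 : IsPullback F.toSpecΓ f pB q) :
    Nonempty (Over.mk f ≅ Over.mk (pullback.snd (pullback.snd f s) q)) := by
  have H2 : IsPullback (pullback.fst f s) (pullback.snd f s) f s := IsPullback.of_hasPullback f s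
  have H := H2.paste_horiz H1
  rw [hs] at H
  haveI : IsIso (pullback.fst f s ≫ F.toSpecΓ) := H.isIso_fst_of_isIso
  let t : Spec Γ(F, ⊤) ≅ pullback f s := (asIso (pullback.fst f s ≫ F.toSpecΓ)).symm
  have hw : (pullback.fst f s ≫ F.toSpecΓ) ≫ pB = pullback.snd f s := by
    rw [H.w, Category.comp_id]
  have H3 : IsPullback (F.toSpecΓ ≫ t.hom) f (pullback.snd f s) q := by
    refine H1.of_iso (Iso.refl _) t (Iso.refl _) (Iso.refl _) (by simp) (by simp) ?_ (by simp)
    rw [Iso.refl_hom, Category.comp_id, ← hw]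
    simp [t]
  exact ⟨Over.isoMk H3.isoPullback H3.isoPullback_hom_snd⟩

end Groth.Agent.ProjFinLib
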